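import Mathlib
import Cfsg.Prelude.Def_Classical

set_option autoImplicit false

/-!
# The exceptional isogeny of `Sp_4(F)`, `char F = 2`: definitions

`gamM g` is the matrix of `Λ² g` on `ω^⊥/ω` (`ω` the invariant bivector), in the basis
`e₁∧e₂, e₁∧f₂, f₁∧f₂, e₂∧f₁`.
-/

namespace Cfsg.Agent.Helper43.Sp4

/-- first index of the pair attached to a basis vector of `ω^⊥/ω` -/
def pr1 : Fin 2 ⊕ Fin 2 → Fin 2 ⊕ Fin 2 :=
  Sum.elim ![Sum.inl 0, Sum.inl 0] ![Sum.inr 0, Sum.inl 1]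

/-- second index of the pair attached to a basis vector of `ω^⊥/ω` -/
def pr2 : Fin 2 ⊕ Fin 2 → Fin 2 ⊕ Fin 2 :=
  Sum.elim ![Sum.inl 1, Sum.inr 1] ![Sum.inr 1, Sum.inr 0]

variable {F : Type*} [CommRing F]

/-- the matrix of `2 × 2` minors of `g` attached to the pairs `(pr1 I, pr2 I)` -/
def gamM (g : Matrix (Fin 2 ⊕ Fin 2) (Fin 2 ⊕ Fin 2) F) :
    Matrix (Fin 2 ⊕ Fin 2) (Fin 2 ⊕ Fin 2) F :=
  Matrix.of fun I J => g (pr1 I) (pr1 J) * g (pr2 I) (pr2 J) - g (pr1 I) (pr2 J) * g (pr2 I) (pr1 J)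

theorem gamM_apply (g : Matrix (Fin 2 ⊕ Fin 2) (Fin 2 ⊕ Fin 2) F) (I J : Fin 2 ⊕ Fin 2) :
    gamM g I J = g (pr1 I) (pr1 J) * g (pr2 I) (pr2 J) - g (pr1 I) (pr2 J) * g (pr2 I) (pr1 J) :=
  rfl

end Cfsg.Agent.Helper43.Sp4
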