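import Mathlib
import Cfsg.Agent.Lib.Helper43.Sp4.Defs

set_option autoImplicit false

/-!
# The exceptional isogeny of `Sp_4(F)`, `char F = 2`: it is an endomorphism of `Sp_4(F)`
-/

namespace Cfsg.Agent.Helper43.Sp4
open Matrix

variable {F : Type*} [CommRing F]

@[simp] theorem pr1_inl0 : pr1 (Sum.inl 0) = Sum.inl 0 := rfl
@[simp] theorem pr1_inl1 : pr1 (Sum.inl 1) = Sum.inl 0 := rfl
@[simp] theorem pr1_inr0 : pr1 (Sum.inr 0) = Sum.inr 0 := rfl
@[simp] theorem pr1_inr1 : pr1 (Sum.inr 1) = Sum.inl 1 := rfl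
@[simp] theorem pr2_inl0 : pr2 (Sum.inl 0) = Sum.inl 1 := rfl
@[simp] theorem pr2_inl1 : pr2 (Sum.inl 1) = Sum.inr 1 := rfl
@[simp] theorem pr2_inr0 : pr2 (Sum.inr 0) = Sum.inr 1 := rfl
@[simp] theorem pr2_inr1 : pr2 (Sum.inr 1) = Sum.inr 0 := rfl

/-- row relation from `g * J * gᵀ = J` -/
theorem row_rel {g : Matrix (Fin 2 ⊕ Fin 2) (Fin 2 ⊕ Fin 2) F}
    (hg : g * J (Fin 2) F * gᵀ = J (Fin 2) F) (a b : Fin 2 ⊕ Fin 2) :
    (g a (Sum.inr 0) * g b (Sum.inl 0) - g a (Sum.inl 0) * g b (Sum.inr 0))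
      + (g a (Sum.inr 1) * g b (Sum.inl 1) - g a (Sum.inl 1) * g b (Sum.inr 1))
      = J (Fin 2) F a b := by
  have h := congrFun (congrFun hg a) b
  rw [← h]
  simp only [Matrix.mul_apply, Fintype.sum_sum_type, Fin.sum_univ_two, Matrix.transpose_apply,
    Matrix.J, Matrix.fromBlocks_apply₁₁, Matrix.fromBlocks_apply₁₂, Matrix.fromBlocks_apply₂₁,
    Matrix.fromBlocks_apply₂₂, Matrix.zero_apply, Matrix.neg_apply, Matrix.one_apply]
  simp
  ring

/-- column relation from `gᵀ * J * g = J` -/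
theorem col_rel {g : Matrix (Fin 2 ⊕ Fin 2) (Fin 2 ⊕ Fin 2) F}
    (hg : gᵀ * J (Fin 2) F * g = J (Fin 2) F) (c d : Fin 2 ⊕ Fin 2) :
    (g (Sum.inr 0) c * g (Sum.inl 0) d - g (Sum.inl 0) c * g (Sum.inr 0) d)
      + (g (Sum.inr 1) c * g (Sum.inl 1) d - g (Sum.inl 1) c * g (Sum.inr 1) d)
      = J (Fin 2) F c d := by
  have h := row_rel (g := gᵀ) (by rw [Matrix.transpose_transpose]; exact hg) c d
  simpa [Matrix.transpose_apply] using h

theorem J_pr (I : Fin 2 ⊕ Fin 2) : J (Fin 2) F (pr1 I) (pr2 I) = 0 := by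
  rcases I with i | i <;> fin_cases i <;> simp [Matrix.J]

/-- Cauchy–Binet for the four special pairs, plus the two relations: `gamM` is multiplicative -/
theorem gamM_mul (h2 : (2 : F) = 0) {g h : Matrix (Fin 2 ⊕ Fin 2) (Fin 2 ⊕ Fin 2) F}
    (hg : g * J (Fin 2) F * gᵀ = J (Fin 2) F) (hh : hᵀ * J (Fin 2) F * h = J (Fin 2) F) :
    gamM (g * h) = gamM g * gamM h := by
  ext I K
  have R1 := row_rel hg (pr1 I) (pr2 I)
  have R2 := col_rel hh (pr1 K) (pr2 K)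
  rw [J_pr] at R1 R2
  simp only [gamM_apply, Matrix.mul_apply, Fintype.sum_sum_type, Fin.sum_univ_two,
    pr1_inl0, pr1_inl1, pr1_inr0, pr1_inr1, pr2_inl0, pr2_inl1, pr2_inr0, pr2_inr1]
  generalize pr1 I = a at *
  generalize pr2 I = b at *
  generalize pr1 K = c at *
  generalize pr2 K = d at *
  linear_combination
    (-(h (Sum.inl 0) c * h (Sum.inr 0) d - h (Sum.inl 0) d * h (Sum.inr 0) c)) * R1
    + (-(g a (Sum.inl 1) * g b (Sum.inr 1) - g a (Sum.inr 1) * g b (Sum.inl 1))) * R2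
    + (-(g a (Sum.inl 1) * g b (Sum.inr 1) - g a (Sum.inr 1) * g b (Sum.inl 1)) *
        (h (Sum.inl 0) c * h (Sum.inr 0) d - h (Sum.inl 0) d * h (Sum.inr 0) c)) * h2

theorem gamM_transpose (g : Matrix (Fin 2 ⊕ Fin 2) (Fin 2 ⊕ Fin 2) F) :
    gamM gᵀ = (gamM g)ᵀ := by
  ext I K
  simp only [gamM_apply, Matrix.transpose_apply]
  ring

theorem gamM_one : gamM (1 : Matrix (Fin 2 ⊕ Fin 2) (Fin 2 ⊕ Fin 2) F) = 1 := by
  ext I K
  rcases I with i | i <;> rcases K with k | k <;> fin_cases i <;> fin_cases k <;>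
    simp [gamM_apply, Matrix.one_apply]

theorem gamM_J (h2 : (2 : F) = 0) : gamM (J (Fin 2) F) = J (Fin 2) F := by
  have hneg : (-1 : F) = 1 := by linear_combination (-1 : F) * h2
  ext I K
  rcases I with i | i <;> rcases K with k | k <;> fin_cases i <;> fin_cases k <;>
    simp [gamM_apply, Matrix.J, hneg]

theorem gamM_mul_of_mem (h2 : (2 : F) = 0) {s t : Matrix (Fin 2 ⊕ Fin 2) (Fin 2 ⊕ Fin 2) F}
    (hs : s ∈ symplecticGroup (Fin 2) F) (ht : t ∈ symplecticGroup (Fin 2) F) :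
    gamM (s * t) = gamM s * gamM t :=
  gamM_mul h2 (SymplecticGroup.mem_iff.1 hs) (SymplecticGroup.mem_iff'.1 ht)

theorem gamM_mem (h2 : (2 : F) = 0) {s : Matrix (Fin 2 ⊕ Fin 2) (Fin 2 ⊕ Fin 2) F}
    (hs : s ∈ symplecticGroup (Fin 2) F) : gamM s ∈ symplecticGroup (Fin 2) F := by
  rw [SymplecticGroup.mem_iff]
  have h1 := SymplecticGroup.mem_iff.1 hs
  have hJ : J (Fin 2) F ∈ symplecticGroup (Fin 2) F := SymplecticGroup.J_mem _ _
  have hT := SymplecticGroup.transpose_mem hs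
  have h3 : gamM (s * J (Fin 2) F * sᵀ) = gamM s * gamM (J (Fin 2) F) * gamM sᵀ := by
    rw [gamM_mul_of_mem h2 (mul_mem hs hJ) hT, gamM_mul_of_mem h2 hs hJ]
  rw [h1, gamM_J h2, gamM_transpose] at h3
  exact h3.symm

/-- the exceptional isogeny as an endomorphism of `Sp_4(F)` -/
def gamSp (h2 : (2 : F) = 0) : symplecticGroup (Fin 2) F →* symplecticGroup (Fin 2) F where
  toFun s := ⟨gamM s.1, gamM_mem h2 s.2⟩
  map_one' := Subtype.ext gamM_one
  map_mul' s t := Subtype.ext (gamM_mul_of_mem h2 s.2 t.2)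

@[simp] theorem gamSp_val (h2 : (2 : F) = 0) (s : symplecticGroup (Fin 2) F) :
    ((gamSp h2 s : symplecticGroup (Fin 2) F) : Matrix (Fin 2 ⊕ Fin 2) (Fin 2 ⊕ Fin 2) F)
      = gamM s.1 := rfl

end Cfsg.Agent.Helper43.Sp4
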