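import Mathlib
import Cfsg.Prelude.Def_ClassicalGeometry
import Cfsg.Agent.S0765
import Cfsg.Agent.Lib.Helper40.AutPSpBasic
import Cfsg.Agent.Lib.Helper43.Sp4.Gam1

set_option autoImplicit false
set_option linter.unusedSimpArgs false

/-!
# The exceptional isogeny of `Sp_4(F)`, `char F = 2`: its square is the Frobenius map; the
automorphism `gamAut` of `PSp_4(F)`
-/

namespace Cfsg.Agent.Helper43.Sp4
open Matrix Cfsg.Agent.Helper40.AutPSp

section ring

variable {F : Type*} [CommRing F]

theorem tv_apply (v : Fin 2 ⊕ Fin 2 → F) (c : F) (i j : Fin 2 ⊕ Fin 2) :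
    Cfsg.sympTransvection 2 v c i j
      = (if i = j then 1 else 0) + c * (v i * (J (Fin 2) F *ᵥ v) j) := by
  simp [Cfsg.sympTransvection, Matrix.one_apply, Matrix.vecMulVec_apply]

theorem Jv_inl (v : Fin 2 ⊕ Fin 2 → F) (i : Fin 2) :
    (J (Fin 2) F *ᵥ v) (Sum.inl i) = - v (Sum.inr i) := by
  simp [Matrix.mulVec, dotProduct, Matrix.J, Fintype.sum_sum_type, Matrix.one_apply]

theorem Jv_inr (v : Fin 2 ⊕ Fin 2 → F) (i : Fin 2) :
    (J (Fin 2) F *ᵥ v) (Sum.inr i) = v (Sum.inl i) := by
  simp [Matrix.mulVec, dotProduct, Matrix.J, Fintype.sum_sum_type, Matrix.one_apply]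

/-- on transvections, the square of the exceptional isogeny is the entrywise square -/
theorem gam_gam_tv (h2 : (2 : F) = 0) (v : Fin 2 ⊕ Fin 2 → F) (c : F) (I K : Fin 2 ⊕ Fin 2) :
    gamM (gamM (Cfsg.sympTransvection 2 v c)) I K = (Cfsg.sympTransvection 2 v c I K) ^ 2 := by
  have hneg : ∀ x : F, -x = x := fun x => by linear_combination (-x) * h2
  rcases I with i | i <;> rcases K with k | k <;> fin_cases i <;> fin_cases k <;>
  simp [gamM_apply, tv_apply, Jv_inl, Jv_inr] <;> ring_nf <;> exact hneg _

end ring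

section field

variable {F : Type*} [Field F] [Fintype F] [CharP F 2]

theorem two_eq_zero' : (2 : F) = 0 := CharTwo.two_eq_zero

/-- the square of the exceptional isogeny is the Frobenius map -/
theorem gamSp_gamSp (s : symplecticGroup (Fin 2) F) :
    gamSp two_eq_zero' (gamSp two_eq_zero' s) = sigmaSp (frobeniusEquiv F 2) s := by
  have key : ((gamSp (F := F) two_eq_zero').comp (gamSp two_eq_zero'))
      = (sigmaSpEquiv (m := 2) (frobeniusEquiv F 2)).toMonoidHom := by
    apply MonoidHom.eq_of_eqOn_dense (Cfsg.Agent.S0765.result (F := F) 2)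
    rintro A ⟨w, c, hA⟩
    apply Subtype.ext
    show gamM (gamM A.1) = A.1.map (frobeniusEquiv F 2)
    rw [hA]
    ext I K
    rw [gam_gam_tv two_eq_zero', Matrix.map_apply, frobeniusEquiv_apply, frobenius_def]
  exact DFunLike.congr_fun key s

theorem gamSp_injective : Function.Injective (gamSp (F := F) two_eq_zero') := by
  intro s t hst
  have h := congrArg (gamSp (F := F) two_eq_zero') hst
  rw [gamSp_gamSp, gamSp_gamSp] at h
  exact (sigmaSpEquiv (m := 2) (frobeniusEquiv F 2)).injective h

/-- the exceptional isogeny as an automorphism of `Sp_4(F)` -/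
noncomputable def gamEquiv : symplecticGroup (Fin 2) F ≃* symplecticGroup (Fin 2) F :=
  MulEquiv.ofBijective (gamSp (F := F) two_eq_zero')
    (Finite.injective_iff_bijective.1 gamSp_injective)

theorem gamEquiv_apply (s : symplecticGroup (Fin 2) F) :
    gamEquiv s = gamSp two_eq_zero' s := rfl

theorem gamEquiv_center :
    (Subgroup.center (symplecticGroup (Fin 2) F)).map (gamEquiv (F := F)).toMonoidHom
      = Subgroup.center (symplecticGroup (Fin 2) F) :=
  (Subgroup.characteristic_iff_map_eq.1
    (inferInstance : (Subgroup.center (symplecticGroup (Fin 2) F)).Characteristic)) gamEquiv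

/-- the exceptional automorphism of `PSp_4(F)` -/
noncomputable def gamAut : MulAut (Cfsg.PSp 2 F) :=
  QuotientGroup.congr (Subgroup.center (symplecticGroup (Fin 2) F))
    (Subgroup.center (symplecticGroup (Fin 2) F)) gamEquiv gamEquiv_center

theorem gamAut_mk (s : symplecticGroup (Fin 2) F) :
    gamAut (QuotientGroup.mk s : Cfsg.PSp 2 F) = QuotientGroup.mk (gamSp two_eq_zero' s) := rfl

/-- the square of the exceptional automorphism is the Frobenius field automorphism -/
theorem gamAut_mul_self :
    (gamAut (F := F)) * gamAut = fieldAutPSp (frobeniusEquiv F 2) := by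
  apply MulEquiv.ext
  intro x
  induction x using QuotientGroup.induction_on with
  | H s => rw [MulAut.mul_apply, gamAut_mk, gamAut_mk, fieldAutPSp_mk, gamSp_gamSp]

end field

end Cfsg.Agent.Helper43.Sp4
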