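import Mathlib
import Cfsg.Agent.Lib.Helper14.SpExcTwoB
import Cfsg.Agent.Lib.Helper43.Sp4.Gam2

set_option autoImplicit false
set_option linter.unusedSimpArgs false
set_option linter.unusedSectionVars false
set_option linter.unusedVariables false

/-!
# `gamAut ∉ PΓSp_4(F)` and `PΓSp_4(F)` has index at most two in `Aut(PSp_4(F))`, `char F = 2`
-/

namespace Cfsg.Agent.Helper43.Sp4
open Matrix Cfsg Cfsg.Agent.Helper13 Cfsg.Agent.Helper84.SpRoot Cfsg.Agent.Helper40.AutPSp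
  Cfsg.Agent.Helper5.SpAut Cfsg.Agent.Helper14.SpExc

variable {F : Type*} [Field F] [Fintype F] [CharP F 2]

/-- the basis vector `e₁` -/
def ve1 : Fin 2 ⊕ Fin 2 → F := Pi.single (Sum.inl 0) 1

theorem ve1_ne_zero : (ve1 : Fin 2 ⊕ Fin 2 → F) ≠ 0 := by
  intro h
  have := congrFun h (Sum.inl 0)
  simp [ve1] at this

/-- the image of a transvection under the exceptional isogeny is not a transvection -/
theorem gamM_tv_ne (w : Fin 2 ⊕ Fin 2 → F) (c : F) :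
    gamM (Cfsg.sympTransvection 2 (ve1 : Fin 2 ⊕ Fin 2 → F) 1) ≠ Cfsg.sympTransvection 2 w c := by
  intro h
  have h1 := congrFun (congrFun h (Sum.inl 0)) (Sum.inr 1)
  have h2 := congrFun (congrFun h (Sum.inl 1)) (Sum.inr 0)
  have h3 := congrFun (congrFun h (Sum.inl 0)) (Sum.inr 0)
  have h4 := congrFun (congrFun h (Sum.inl 1)) (Sum.inr 1)
  simp [gamM_apply, tv_apply, Jv_inl, Jv_inr, ve1] at h1 h2 h3 h4
  rcases h3 with h3 | h3 <;> rw [h3] at h2 <;> simp at h2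

theorem gamAut_not_mem : (gamAut (F := F)) ∉ gammaSub 2 F := by
  intro hmem
  obtain ⟨G, σ, hGσ⟩ := (mem_gammaSub _).1 hmem
  have h1 := map_Tb_PhiSp_field G σ (ve1 : Fin 2 ⊕ Fin 2 → F)
  rw [← hGσ] at h1
  have h2 : gamAut (QuotientGroup.mk (sympT (ve1 : Fin 2 ⊕ Fin 2 → F) 1) : PSp 2 F)
      ∈ (Tb (ve1 : Fin 2 ⊕ Fin 2 → F)).map (gamAut (F := F)).toMonoidHom :=
    Subgroup.mem_map_of_mem _ (Subgroup.mem_map_of_mem _ (sympT_mem_T _ 1))
  rw [h1] at h2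
  obtain ⟨t, ht, htm⟩ := h2
  obtain ⟨c, rfl⟩ := mem_T_iff.1 ht
  rw [gamAut_mk] at htm
  have h3 := mk_inj (by norm_num) htm
  have h4 := congrArg Subtype.val h3
  exact gamM_tv_ne _ c h4.symm

end Cfsg.Agent.Helper43.Sp4
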