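import Mathlib
import Cfsg.Agent.Lib.Helper14.SpExcTwoB

set_option autoImplicit false
set_option linter.unusedSimpArgs false
set_option linter.unusedSectionVars false
set_option linter.unusedVariables false
set_option linter.style.haveILetI false

/-!
# `PΓSp_4(F)` has index at most two in `Aut(PSp_4(F))`, `char F = 2`

The product of two automorphisms of case II (long root groups to short root groups) is of case I.
(Two-automorphism version of `Cfsg.Agent.Helper14.SpExc.caseI_sq_of_caseII`.)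
-/

namespace Cfsg.Agent.Helper43.Sp4
open Matrix Cfsg Cfsg.Agent.Helper13 Cfsg.Agent.Helper84.SpRoot Cfsg.Agent.Helper40.AutPSp
  Cfsg.Agent.Helper5.SpAut Cfsg.Agent.Helper14.LocalBal Cfsg.Agent.Helper14.SpExc

variable {F : Type*} [Field F] [Fintype F] [CharP F 2] {m : ℕ}

theorem caseI_trans_of_caseII (hm : 2 ≤ m) (hm2 : m = 2) (α β : PSp m F ≃* PSp m F)
    (h : CaseII α) (hβ : CaseII β) : CaseI (α.trans β) := by
  haveI : Fact (Nat.Prime 2) := ⟨Nat.prime_two⟩
  have hm0 : 0 < m := by omega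
  obtain ⟨P0⟩ : Nonempty (Sylow 2 (Matrix.symplecticGroup (Fin m) F)) := Sylow.nonempty
  obtain ⟨v0, w0, hwv0, hv0, hP0, -⟩ := good_all hm hm2 P0
  -- first step
  obtain ⟨P', v', w', hwv', hv', hPv', hch1, hgood1, h1⟩ :=
    dichotomy_at hm hm2 α P0 hv0 hP0 (Tb v0)
      (by rw [card_Tb hm0 hv0]) (Tb_subset_charSet hm0 hv0 P0 hP0)
  have h1' : (Tb v0).map α.toMonoidHom = Sb v' w' hwv' := by
    rcases h1 with h1 | h1
    · exfalso
      obtain ⟨a, b, hab, h2⟩ := h v0 hv0
      exact not_caseI_and_caseII hm0 α hv0 hv' h1 h2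
    · exact h1
  have hcardS : Nat.card F ≤ Nat.card ↥(Sb v' w' hwv') := by
    rw [← h1', card_map_equiv, card_Tb hm0 hv0]
  have hSch : ∀ z ∈ Sb v' w' hwv',
      z ∈ charSet 2 ((P' : Subgroup (Matrix.symplecticGroup (Fin m) F)).map
        (QuotientGroup.mk' (Subgroup.center (Matrix.symplecticGroup (Fin m) F)))) := by
    intro z hz
    rw [← h1'] at hz
    obtain ⟨z₀, hz₀, rfl⟩ := hz
    exact hch1 z₀ (Tb_subset_charSet hm0 hv0 P0 hP0 z₀ hz₀)
  -- second step, for the short root group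
  obtain ⟨P'', v'', w'', hwv'', hv'', hPv'', hch2, hgood2, h2⟩ :=
    dichotomy_at hm hm2 β P' hv' hPv' (Sb v' w' hwv') hcardS hSch
  -- second step, for the long root group, with the same image Sylow subgroup
  have h3 : (Tb v').map β.toMonoidHom = Tb v'' ∨
      (Tb v').map β.toMonoidHom = Sb v'' w'' hwv'' := by
    apply eq_Tb_or_eq_Sb hm0 hv''
    · rw [card_map_equiv, card_Tb hm0 hv']
    · rintro _ ⟨z, hz, rfl⟩
      exact hgood2 _ (hch2 z (Tb_subset_charSet hm0 hv' P' hPv' z hz))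
  have h3' : (Tb v').map β.toMonoidHom = Sb v'' w'' hwv'' := by
    rcases h3 with h3 | h3
    · exfalso
      obtain ⟨a, b, hab, h4⟩ := hβ v' hv'
      exact not_caseI_and_caseII hm0 β hv' hv'' h3 h4
    · exact h3
  have h2' : (Sb v' w' hwv').map β.toMonoidHom = Tb v'' := by
    rcases h2 with h2 | h2
    · exact h2
    · exfalso
      have heq : Sb v' w' hwv' = Tb v' :=
        Subgroup.map_injective (f := β.toMonoidHom) β.injective (h2.trans h3'.symm)
      obtain ⟨z, hz, hz1⟩ := Tb_ne_bot' hm0 hv'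
      apply hz1
      apply eq_one_of_mem_Tb_of_mem_Sb hm0 hv' hz (hwv' := hwv')
      rw [heq]
      exact hz
  -- conclusion
  have h5 : (Tb v0).map (α.trans β).toMonoidHom = Tb v'' := by
    rw [← h2', ← h1', Subgroup.map_map]
    rfl
  rcases caseI_or_caseII hm hm2 (α.trans β) with h6 | h6
  · exact h6
  · exfalso
    obtain ⟨a, b, hab, h7⟩ := h6 v0 hv0
    exact not_caseI_and_caseII hm0 (α.trans β) hv0 hv'' h5 h7

/-- `PΓSp_4(F)` has index at most two in `Aut(PSp_4(F))` -/
theorem mul_mem_gammaSub (α β : MulAut (PSp 2 F)) (hα : α ∉ gammaSub 2 F)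
    (hβ : β ∉ gammaSub 2 F) : α * β ∈ gammaSub 2 F := by
  have h2 : (2 : ℕ) ≤ 2 := le_refl 2
  have cII : ∀ x : MulAut (PSp 2 F), x ∉ gammaSub 2 F → CaseII x := by
    intro x hx
    rcases caseI_or_caseII h2 rfl x with h | h
    · exact absurd (mem_gammaSub_of_caseI h2 rfl x h) hx
    · exact h
  apply mem_gammaSub_of_caseI h2 rfl
  have h0 : (α * β : MulAut (PSp 2 F)) = (β : PSp 2 F ≃* PSp 2 F).trans α := rfl
  rw [h0]
  exact caseI_trans_of_caseII h2 rfl β α (cII β hβ) (cII α hα)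

end Cfsg.Agent.Helper43.Sp4
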