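import Mathlib
import Cfsg.Agent.Lib.Helper14.LocalBalSpRed
import Cfsg.Agent.Lib.Helper40.AutPSpFieldMain
import Cfsg.Agent.Lib.Helper43.OMin4
import Cfsg.Agent.Lib.Helper43.Sp4.Gam3
import Cfsg.Agent.Lib.Helper43.Sp4.Gam4

set_option autoImplicit false
set_option linter.unusedSimpArgs false
set_option linter.unusedSectionVars false
set_option linter.unusedVariables false

/-!
# `Out(PSp_4(2^f))` is cyclic of order `2f`
-/

namespace Cfsg.Agent.Helper43.Sp4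
open Matrix Cfsg Cfsg.Agent.Helper40.AutPSp Cfsg.Agent.Helper14.LocalBal

variable {F : Type*} [Field F] [Fintype F] [CharP F 2]

theorem frob_pow_apply (n : ℕ) (c : F) : ((frobeniusEquiv F 2) ^ n) c = c ^ (2 ^ n) := by
  induction n generalizing c with
  | zero => simp
  | succ n ih =>
    rw [pow_succ, RingAut.mul_apply, ih, frobeniusEquiv_apply, frobenius_def, ← pow_mul,
      pow_succ, mul_comm]

theorem exists_frob_pow (σ : F ≃+* F) : ∃ n : ℕ, σ = (frobeniusEquiv F 2) ^ n := by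
  obtain ⟨n, hn⟩ := Cfsg.Agent.Helper43.OMin.exists_pow_of_ringEquiv σ
  refine ⟨n, RingEquiv.ext fun c => ?_⟩
  rw [hn, frob_pow_apply]

theorem frob_pow_card {f : ℕ} (hF : Fintype.card F = 2 ^ f) : (frobeniusEquiv F 2) ^ f = 1 := by
  apply RingEquiv.ext
  intro c
  rw [frob_pow_apply, Cfsg.Agent.Helper43.OMin.pow_two_pow_card hF]
  rfl

theorem dvd_of_frob_pow {f : ℕ} (hf : 1 ≤ f) (hF : Fintype.card F = 2 ^ f) (j : ℕ)
    (h : (frobeniusEquiv F 2) ^ j = 1) : f ∣ j := by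
  apply Cfsg.Agent.Helper43.OMin.dvd_of_pow_two_pow_eq hf hF
  intro c
  rw [← frob_pow_apply, h]
  rfl

/-- the Frobenius field automorphism of `PSp_4(F)` -/
noncomputable def phiAut : MulAut (PSp 2 F) := fieldAutPSp (frobeniusEquiv F 2)

theorem gamAut_pow_two_mul (k : ℕ) : (gamAut (F := F)) ^ (2 * k) = phiAut ^ k := by
  rw [pow_mul, pow_two, gamAut_mul_self]
  rfl

theorem inn_eq_range : Cfsg.Inn (PSp 2 F) = (PhiSp (F := F) (m := 2)).range :=
  (range_PhiSp_eq_inn_of_char_two (by norm_num)).symm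

theorem phiAut_pow_mem_inn {f : ℕ} (hf : 1 ≤ f) (hF : Fintype.card F = 2 ^ f) (k : ℕ)
    (h : (phiAut (F := F)) ^ k ∈ Cfsg.Inn (PSp 2 F)) : f ∣ k := by
  rw [inn_eq_range] at h
  obtain ⟨g, hg⟩ := h
  apply dvd_of_frob_pow hf hF
  apply field_eq_one_of_mul_eq_one (m := 2) (by norm_num) g⁻¹
  rw [fieldAutPSp_pow, map_inv, hg]
  exact inv_mul_cancel _

theorem phiAut_pow_card {f : ℕ} (hF : Fintype.card F = 2 ^ f) : (phiAut (F := F)) ^ f = 1 := by
  unfold phiAut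
  rw [← fieldAutPSp_pow, frob_pow_card hF, fieldAutPSp_one]

theorem phiAut_pow_mem_gammaSub (k : ℕ) : (phiAut (F := F)) ^ k ∈ gammaSub 2 F := by
  rw [mem_gammaSub]
  refine ⟨1, (frobeniusEquiv F 2) ^ k, ?_⟩
  rw [map_one, one_mul, fieldAutPSp_pow]
  rfl

theorem inn_le_gammaSub : Cfsg.Inn (PSp 2 F) ≤ gammaSub 2 F := by
  rw [inn_eq_range]
  rintro _ ⟨g, rfl⟩
  rw [mem_gammaSub]
  exact ⟨g, 1, by rw [fieldAutPSp_one, mul_one]⟩

/-- every element of `PΓSp_4(F)` is inner times a power of the Frobenius automorphism -/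
theorem exists_pow_of_mem_gammaSub {f : ℕ} (hf : 1 ≤ f) (hF : Fintype.card F = 2 ^ f)
    (β : MulAut (PSp 2 F)) (hβ : β ∈ gammaSub 2 F) :
    ∃ k : ℕ, β * phiAut ^ k ∈ Cfsg.Inn (PSp 2 F) := by
  obtain ⟨g, σ, rfl⟩ := (mem_gammaSub β).1 hβ
  obtain ⟨n, rfl⟩ := exists_frob_pow σ
  refine ⟨n * f - n, ?_⟩
  have hle : n ≤ n * f := Nat.le_mul_of_pos_right n hf
  have h1 : (fieldAutPSp ((frobeniusEquiv F 2) ^ n) : MulAut (PSp 2 F)) * phiAut ^ (n * f - n)
      = 1 := by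
    rw [fieldAutPSp_pow]
    show phiAut ^ n * phiAut ^ (n * f - n) = 1
    rw [← pow_add, Nat.add_sub_cancel' hle, pow_mul', phiAut_pow_card hF, one_pow]
  rw [mul_assoc, h1, mul_one, inn_eq_range]
  exact ⟨g, rfl⟩

/-- **S2600**: `Out(PSp_4(2^f))` is cyclic of order `2f`. -/
theorem out_psp4_even {f : ℕ} (hf : 1 ≤ f) (hF : Fintype.card F = 2 ^ f) :
    IsCyclic (Cfsg.Out (Cfsg.PSp 2 F)) ∧ Nat.card (Cfsg.Out (Cfsg.PSp 2 F)) = 2 * f := by
  apply Cfsg.Agent.Helper43.OMin.cyc (Cfsg.Inn (PSp 2 F)) (gamAut (F := F)) f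
    (Cfsg.Inn (PSp 2 F))
  · -- every class is a power of the class of `gamAut`
    intro β
    by_cases hβ : β ∈ gammaSub 2 F
    · obtain ⟨k, hk⟩ := exists_pow_of_mem_gammaSub hf hF β hβ
      exact ⟨2 * k, by rw [gamAut_pow_two_mul]; exact hk⟩
    · have h1 := mul_mem_gammaSub β gamAut hβ gamAut_not_mem
      obtain ⟨k, hk⟩ := exists_pow_of_mem_gammaSub hf hF _ h1
      refine ⟨1 + 2 * k, ?_⟩
      rw [pow_add, pow_one, gamAut_pow_two_mul, ← mul_assoc]
      exact hk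
  · intro d hd
    exact Or.inl hd
  · intro j hj
    rcases Nat.even_or_odd' j with ⟨k, rfl | rfl⟩
    · rw [gamAut_pow_two_mul] at hj
      exact Nat.mul_dvd_mul_left 2 (phiAut_pow_mem_inn hf hF k hj)
    · exfalso
      rw [pow_add, pow_one, gamAut_pow_two_mul] at hj
      have h1 := inn_le_gammaSub hj
      have h2 := (Subgroup.mul_mem_cancel_left (gammaSub 2 F) (phiAut_pow_mem_gammaSub k)).1 h1
      exact gamAut_not_mem h2
  · rw [gamAut_pow_two_mul, phiAut_pow_card hF]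
    exact Subgroup.one_mem _

end Cfsg.Agent.Helper43.Sp4
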